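import Cfsg.Agent.Cert.G2Chk2

/-! Kernel checks, part three: the two suborbits. -/

set_option autoImplicit false

namespace Cfsg.Agent.Cert.G2

/-- generators of the two-point stabiliser -/
def ugA (k : ℕ) : ℕ := lk tUGA 32 4294967296 k
/-- their action -/
def puA (k x : ℕ) : ℕ := lk tPUA 9 512 (Nat.add (Nat.mul 512 k) x)
/-- coset table -/
def tauA (k i : ℕ) : ℕ := lk tTAUA 9 512 (Nat.add (Nat.mul 512 k) i)
/-- coset representatives -/
def twA (i : ℕ) : ℕ := lk tTWA 32 4294967296 i
/-- Schreier words -/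
def uwA (k i : ℕ) : ℕ := lk tUWA 32 4294967296 (Nat.add (Nat.mul 512 k) i)
/-- orbit representatives -/
def rA (i : ℕ) : ℕ := lk tRA 9 512 i
/-- words from the representatives -/
def dA (i : ℕ) : ℕ := lk tDA 32 4294967296 i
/-- generation words -/
def wA (i k : ℕ) : ℕ := lk tWA 32 4294967296 (Nat.add (Nat.mul 8 (lk tSA 4 16 i)) k)
/-- action of the generators on the cosets -/
noncomputable def tpA (k : ℕ) : ℕ → ℕ := evW tauA 5 32 (ugA k)

theorem chk_ugA : allR (fun k => Nat.beq (evW tau 5 32 (ugA k) 1) 1) 0 8 3 = true := by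
  decide +kernel

theorem chk_puA : allR (fun k => allR (fun x =>
    Nat.beq (puA k x) (evW pp 5 32 (ugA k) x)) 0 315 9) 0 8 3 = true := by
  decide +kernel

theorem chk_cosA : allR (fun k => allR (fun i =>
    chkCos pp 5 32 puA 8 32 14 4 315 tauA twA uwA k i) 0 315 9) 0 5 3 = true := by
  decide +kernel

theorem chk_dA : allR (fun i => chkD tpA 8 32 315 rA dA i) 0 315 9 = true := by
  decide +kernel

theorem chk_wA : allR (fun i => allR (fun k => Nat.beq
    (evW (ext1 tpA 8 (evW tauA 5 32 (twA (rA i)))) (8 + 1) 32 (wA i k) 0) (tauA k 0)) 0 5 3)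
    1 315 9 = true := by
  decide +kernel

theorem chk_twA0 : twA 0 = 0 := by decide +kernel

theorem chk_witA : allR (fun y => allR (fun z => not (Nat.beq (tab (evW pp 6 32 (tw 1) z))
    (tab (pp 1 (evW pp 6 32 (tw 1) y))))) 0 315 9) 0 1 0 = true := by
  decide +kernel

/-- generators of the two-point stabiliser -/
def ugB (k : ℕ) : ℕ := lk tUGB 32 4294967296 k
/-- their action -/
def puB (k x : ℕ) : ℕ := lk tPUB 9 512 (Nat.add (Nat.mul 512 k) x)
/-- coset table -/
def tauB (k i : ℕ) : ℕ := lk tTAUB 9 512 (Nat.add (Nat.mul 512 k) i)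
/-- coset representatives -/
def twB (i : ℕ) : ℕ := lk tTWB 32 4294967296 i
/-- Schreier words -/
def uwB (k i : ℕ) : ℕ := lk tUWB 32 4294967296 (Nat.add (Nat.mul 512 k) i)
/-- orbit representatives -/
def rB (i : ℕ) : ℕ := lk tRB 9 512 i
/-- words from the representatives -/
def dB (i : ℕ) : ℕ := lk tDB 32 4294967296 i
/-- generation words -/
def wB (i k : ℕ) : ℕ := lk tWB 32 4294967296 (Nat.add (Nat.mul 8 (lk tSB 4 16 i)) k)
/-- action of the generators on the cosets -/
noncomputable def tpB (k : ℕ) : ℕ → ℕ := evW tauB 5 32 (ugB k)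

theorem chk_ugB : allR (fun k => Nat.beq (evW tau 5 32 (ugB k) 72) 72) 0 8 3 = true := by
  decide +kernel

theorem chk_puB : allR (fun k => allR (fun x =>
    Nat.beq (puB k x) (evW pp 5 32 (ugB k) x)) 0 315 9) 0 8 3 = true := by
  decide +kernel

theorem chk_cosB : allR (fun k => allR (fun i =>
    chkCos pp 5 32 puB 8 32 14 4 100 tauB twB uwB k i) 0 100 9) 0 5 3 = true := by
  decide +kernel

theorem chk_dB : allR (fun i => chkD tpB 8 32 100 rB dB i) 0 100 9 = true := by
  decide +kernel

theorem chk_wB : allR (fun i => allR (fun k => Nat.beq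
    (evW (ext1 tpB 8 (evW tauB 5 32 (twB (rB i)))) (8 + 1) 32 (wB i k) 0) (tauB k 0)) 0 5 3)
    1 100 9 = true := by
  decide +kernel

theorem chk_twB0 : twB 0 = 0 := by decide +kernel

theorem chk_witB : allR (fun y => allR (fun z => not (Nat.beq (tab (evW pp 6 32 (tw 72) z))
    (tab (pp 2 (evW pp 6 32 (tw 72) y))))) 0 315 9) 0 1 0 = true := by
  decide +kernel

theorem chk_witG : allR (fun z => not (Nat.beq (tab z) (tab (pp 5 0)))) 0 315 9 = true := by
  decide +kernel

theorem chk_inj : allR (fun x => allR (fun y => not (Nat.beq (tab x) (tab y))) (Nat.succ x) 315 9)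
    0 315 9 = true := by
  decide +kernel

end Cfsg.Agent.Cert.G2
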